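import Mathlib
import Cfsg.Agent.Lib.EqualOrderConj
import Cfsg.Agent.Lib.PSolvable
import Cfsg.Agent.Lib.Basic
import Cfsg.Agent.Lib.QuatAut
import Cfsg.Agent.S3911
import Cfsg.Agent.S4022

/-! Solvable groups in which abelian subgroups of equal order are conjugate: the Sylow subgroups and the
linear groups which they induce on normal elementary abelian Sylow subgroups. -/

set_option autoImplicit false

namespace CfsgLib.EqualOrder.Solv

open Cfsg Subgroup
open scoped IsMulCommutative commutatorElement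

universe u

variable {G : Type u} [Group G]

/-- Abelian subgroups of equal order are conjugate. -/
abbrev HB (G : Type u) [Group G] : Prop :=
  ∀ A B : Subgroup G, IsMulCommutative ↥A → IsMulCommutative ↥B → Nat.card ↥A = Nat.card ↥B →
    ∃ g : G, B = A.map (MulAut.conj g).toMonoidHom

theorem HB.zpowers_conj (hB : HB G) {x y : G} (h : orderOf x = orderOf y) :
    ∃ g : G, zpowers y = (zpowers x).map (MulAut.conj g).toMonoidHom :=
  hB _ _ inferInstance inferInstance (by rw [Nat.card_zpowers, Nat.card_zpowers, h])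

theorem HB.exists_conj_mem (hB : HB G) {x y : G} (h : orderOf x = orderOf y) :
    ∃ g : G, g * x * g⁻¹ ∈ zpowers y ∧ y ∈ zpowers (g * x * g⁻¹) := by
  obtain ⟨g, hg⟩ := hB.zpowers_conj h
  rw [MonoidHom.map_zpowers] at hg
  exact ⟨g, hg ▸ mem_zpowers (g * x * g⁻¹), hg ▸ mem_zpowers y⟩

theorem HB.mem_normal (hB : HB G) {M : Subgroup G} [hM : M.Normal] {x y : G} (hx : x ∈ M)
    (h : orderOf x = orderOf y) : y ∈ M := by
  obtain ⟨g, -, hg⟩ := hB.exists_conj_mem h
  exact zpowers_le.mpr (hM.conj_mem x hx g) hg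

theorem HB.mem_normal_prime [Finite G] (hB : HB G) {M : Subgroup G} [M.Normal] {q : ℕ} [Fact q.Prime]
    (hq : q ∣ Nat.card M) {y : G} (hy : y ^ q = 1) : y ∈ M := by
  rcases eq_or_ne y 1 with rfl | hy1
  · exact one_mem M
  obtain ⟨x, hx⟩ := exists_prime_orderOf_dvd_card' q hq
  exact hB.mem_normal x.2 (by rw [Subgroup.orderOf_coe, hx, orderOf_eq_prime hy hy1])

theorem HB.of_equiv {H : Type u} [Group H] (e : G ≃* H) (hB : HB G) : HB H := by
  intro A B hA hB' hcard
  have hc : ∀ C : Subgroup H, IsMulCommutative C → IsMulCommutative (C.map e.symm.toMonoidHom) := by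
    intro C hC
    refine ⟨⟨?_⟩⟩
    rintro ⟨_, a, ha, rfl⟩ ⟨_, b, hb, rfl⟩
    refine Subtype.ext ?_
    change e.symm a * e.symm b = e.symm b * e.symm a
    rw [← map_mul, ← map_mul, CfsgLib.EqualOrder.mem_centralizer_self hC ha hb]
  have hn : ∀ C : Subgroup H, Nat.card (C.map e.symm.toMonoidHom) = Nat.card C := fun C =>
    Subgroup.card_map_of_injective e.symm.injective
  obtain ⟨g, hg⟩ := hB _ _ (hc A hA) (hc B hB') (by rw [hn, hn, hcard])
  refine ⟨e g, ?_⟩
  ext y
  constructor
  · intro hy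
    obtain ⟨z, ⟨a, ha, rfl⟩, hz⟩ : e.symm y ∈ (A.map e.symm.toMonoidHom).map (MulAut.conj g).toMonoidHom :=
      hg ▸ mem_map_of_mem e.symm.toMonoidHom hy
    refine ⟨a, ha, ?_⟩
    have := congrArg e hz
    simpa using this
  · rintro ⟨a, ha, rfl⟩
    have h1 : g * e.symm a * g⁻¹ ∈ B.map e.symm.toMonoidHom :=
      hg ▸ ⟨e.symm a, mem_map_of_mem e.symm.toMonoidHom ha, rfl⟩
    obtain ⟨b, hb, hb'⟩ := h1
    have := congrArg e hb'
    simp only [MulEquiv.coe_toMonoidHom, MulEquiv.apply_symm_apply, map_mul, map_inv] at this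
    simpa [← this] using hb

theorem trichotomy [Finite G] (hB : HB G) {p : ℕ} [Fact p.Prime] (P : Sylow p G) :
    IsCyclic (P : Subgroup G) ∨
      (p = 2 ∧ ∃ n : ℕ, 1 ≤ n ∧ Nonempty ((P : Subgroup G) ≃* QuaternionGroup (2 ^ n))) ∨
      ∀ x ∈ (P : Subgroup G), x ^ p = 1 :=
  CfsgLib.EqualOrder.cyclic_or_exponent (P : Subgroup G) P.2 fun A B _ _ hA hB' hc => hB A B hA hB' hc

theorem le_pCore_of_le_fitting [Finite G] {q : ℕ} [Fact q.Prime] {Q : Subgroup G} (hQ : IsPGroup q Q)
    (hle : Q ≤ fittingSubgroup G) : Q ≤ pCore q G := by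
  set F := fittingSubgroup G
  have hnil : Group.IsNilpotent F := CfsgLib.isNilpotent_fittingSubgroup
  obtain ⟨S, hS⟩ := (hQ.comap_subtype : IsPGroup q (Q.subgroupOf F)).exists_le_sylow
  have hall : ∀ (r : ℕ) (_ : Fact r.Prime) (T : Sylow r F), (T : Subgroup F).Normal :=
    ((Group.isNilpotent_of_finite_tfae (G := F)).out 0 3).mp hnil
  haveI : (S : Subgroup F).Normal := hall q inferInstance S
  intro x hx
  refine CfsgLib.map_pCore_le q F ?_
  rw [← CfsgLib.sylow_eq_pCore_of_normal S]
  exact ⟨⟨x, hle hx⟩, hS hx, rfl⟩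

/-! ### Quaternion groups -/

theorem quat_involution {m : ℕ} [NeZero m] {x : QuaternionGroup m} (hx : x * x = 1) :
    x = 1 ∨ x = QuaternionGroup.a (m : ZMod (2 * m)) := by
  have hm : 0 < m := NeZero.pos m
  haveI : NeZero (2 * m) := ⟨by omega⟩
  rcases x with i | i
  · rw [QuaternionGroup.a_mul_a, QuaternionGroup.one_def] at hx
    have h2 : i + i = 0 := by injection hx
    have h3 : (2 * i.val) % (2 * m) = 0 := by
      have := congrArg ZMod.val h2
      rw [ZMod.val_add, ZMod.val_zero, ← two_mul] at this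
      exact this
    have h4 := ZMod.val_lt i
    obtain ⟨c, hc⟩ := Nat.dvd_of_mod_eq_zero h3
    have h5 : c < 2 := by
      by_contra hcon
      nlinarith
    interval_cases c
    · left
      rw [QuaternionGroup.one_def, ← ZMod.natCast_zmod_val i, show i.val = 0 by omega, Nat.cast_zero]
    · right
      rw [← ZMod.natCast_zmod_val i, show i.val = m by omega]
  · rw [QuaternionGroup.xa_mul_xa, QuaternionGroup.one_def] at hx
    have h2 : (m : ZMod (2 * m)) + i - i = 0 := by injection hx
    rw [add_sub_cancel_right, ZMod.natCast_eq_zero_iff] at h2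
    have := Nat.le_of_dvd hm h2
    omega

/-- A solvable group with the property has no generalized quaternion Sylow subgroup of order greater than `8`. -/
theorem quaternion_eq_one [Finite G] [Group.IsSolvable G] (hB : HB G) (P : Sylow 2 G) {n : ℕ} (hn : 1 ≤ n)
    (e : (P : Subgroup G) ≃* QuaternionGroup (2 ^ n)) : n = 1 := by
  by_contra hne
  have hn2 : 2 ≤ n := by omega
  haveI : NeZero (2 ^ n) := ⟨(Nat.two_pow_pos n).ne'⟩
  set R := pPrimeCore 2 G with hR
  have hRodd : Odd (Nat.card R) := by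
    rw [Nat.odd_iff, ← Nat.two_dvd_ne_zero]
    exact CfsgLib.not_dvd_card_pPrimeCore Nat.prime_two
  set π := QuotientGroup.mk' R
  have hπs : Function.Surjective π := QuotientGroup.mk'_surjective R
  have hB' : HB (G ⧸ R) := Cfsg.Agent.S3911.result hB R hRodd
  have hO : pPrimeCore 2 (G ⧸ R) = ⊥ := CfsgLib.pPrimeCore_quotient_eq_bot 2
  let f : QuaternionGroup (2 ^ n) →* G ⧸ R := (π.comp (P : Subgroup G).subtype).comp e.symm.toMonoidHom
  have hfinj : Function.Injective f := by
    have h0 : Function.Injective (π.comp (P : Subgroup G).subtype) := by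
      rw [← MonoidHom.ker_eq_bot_iff, eq_bot_iff]
      intro x hx
      have hxR : (x : G) ∈ R := (QuotientGroup.eq_one_iff (x : G)).mp hx
      obtain ⟨k, hk⟩ := IsPGroup.iff_orderOf.mp P.2 x
      rw [mem_bot, ← orderOf_eq_one_iff, hk]
      have h1 : 2 ^ k ∣ Nat.card R := by
        rw [← hk, ← Subgroup.orderOf_coe]
        exact Subgroup.orderOf_dvd_natCard R hxR
      rcases k with _ | k
      · rfl
      · exact absurd ((dvd_pow_self 2 (Nat.succ_ne_zero k)).trans h1) (Nat.two_dvd_ne_zero.mpr (Nat.odd_iff.mp hRodd))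
    exact h0.comp e.symm.injective
  let P' := P.mapSurjective hπs
  have hPf : ((P' : Sylow 2 (G ⧸ R)) : Subgroup (G ⧸ R)) = f.range := by
    rw [Sylow.coe_mapSurjective]
    ext y
    constructor
    · rintro ⟨x, hx, rfl⟩
      exact ⟨e ⟨x, hx⟩, by simp [f]⟩
    · rintro ⟨q, rfl⟩
      exact ⟨(e.symm q : G), (e.symm q).2, rfl⟩
  have hord : ∀ q, orderOf (f q) = orderOf q := fun q => orderOf_injective f hfinj q
  set S := pCore 2 (G ⧸ R) with hS
  have hC : centralizer (S : Set (G ⧸ R)) ≤ S := CfsgLib.centralizer_pCore_le Nat.prime_two hO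
  have hSP : S ≤ f.range := hPf ▸ CfsgLib.pCore_le_sylow P'
  by_cases h4 : ∃ s ∈ S, orderOf s = 4
  · obtain ⟨s, hs, hs4⟩ := h4
    have hxa : ∀ i, f (QuaternionGroup.xa i) ∈ S := fun i =>
      hB'.mem_normal hs (by rw [hs4, hord, QuaternionGroup.orderOf_xa])
    have hPS : f.range ≤ S := by
      rintro _ ⟨q, rfl⟩
      rcases q with i | i
      · have : (QuaternionGroup.a i : QuaternionGroup (2 ^ n)) =
            QuaternionGroup.xa 0 * QuaternionGroup.xa (i - ((2 ^ n : ℕ) : ZMod (2 * 2 ^ n))) := by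
          rw [QuaternionGroup.xa_mul_xa]; congr 1; abel
        rw [this, map_mul]
        exact mul_mem (hxa _) (hxa _)
      · exact hxa i
    have hnorm : f.range.Normal := le_antisymm hSP hPS ▸ (inferInstance : S.Normal)
    set T : Set (G ⧸ R) := {t | t ∈ f.range ∧ 4 < orderOf t}
    have hA : (closure T).Normal := by
      refine ⟨fun x hx g => ?_⟩
      have h1 : (closure T).map (MulAut.conj g).toMonoidHom ≤ closure T := by
        rw [MonoidHom.map_closure]
        refine closure_mono ?_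
        rintro _ ⟨t, ⟨ht, ho⟩, rfl⟩
        exact ⟨hnorm.conj_mem t ht g, by
          rwa [← MulEquiv.orderOf_eq (MulAut.conj g) t] at ho⟩
      exact h1 ⟨x, hx, rfl⟩
    have hTle : closure T ≤ (zpowers (QuaternionGroup.a 1 : QuaternionGroup (2 ^ n))).map f := by
      rw [closure_le]
      rintro t ⟨⟨q, rfl⟩, ho⟩
      rcases q with i | i
      · exact ⟨_, ⟨(i.val : ℤ), by
          change (QuaternionGroup.a 1 : QuaternionGroup (2 ^ n)) ^ (i.val : ℤ) = QuaternionGroup.a i
          rw [zpow_natCast, QuaternionGroup.a_one_pow, ZMod.natCast_zmod_val]⟩, rfl⟩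
      · rw [hord, QuaternionGroup.orderOf_xa] at ho
        omega
    have hpow : 4 ≤ 2 ^ n := le_trans (by norm_num) (Nat.pow_le_pow_right (n := 2) two_pos hn2)
    have ha : f (QuaternionGroup.a 1) ∈ closure T := subset_closure ⟨⟨_, rfl⟩, by
      rw [hord, QuaternionGroup.orderOf_a_one]; omega⟩
    have hb : orderOf (f (QuaternionGroup.a 1) ^ 2 ^ (n - 1)) = 4 := by
      rw [orderOf_pow' _ (Nat.two_pow_pos (n - 1)).ne', hord, QuaternionGroup.orderOf_a_one,
        show 2 * 2 ^ n = 2 ^ (n - 1) * 4 by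
          rw [show (4 : ℕ) = 2 ^ 2 from rfl, ← pow_add, ← pow_succ']; congr 1; omega,
        Nat.gcd_eq_right (dvd_mul_right _ _), Nat.mul_div_cancel_left _ (Nat.two_pow_pos _)]
    haveI := hA
    have hx0 : f (QuaternionGroup.xa 0) ∈ closure T :=
      hB'.mem_normal (pow_mem ha _) (by rw [hb, hord, QuaternionGroup.orderOf_xa])
    obtain ⟨q, ⟨k, rfl⟩, hk⟩ := hTle hx0
    obtain ⟨j, hj⟩ : ∃ j : ℕ, (QuaternionGroup.a 1 : QuaternionGroup (2 ^ n)) ^ k = QuaternionGroup.a 1 ^ j := by
      obtain ⟨j, hj⟩ := (isOfFinOrder_of_finite (QuaternionGroup.a 1 : QuaternionGroup (2 ^ n))).mem_zpowers_iff_mem_range_orderOf.mp ⟨k, rfl⟩ |> Finset.mem_image.mp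
      exact ⟨j, hj.2.symm⟩
    have := hfinj hk
    simp only [hj, QuaternionGroup.a_one_pow] at this
    cases this
  · push Not at h4
    have h2 : ∀ s ∈ S, s * s = 1 := by
      intro s hs
      obtain ⟨k, hk⟩ := IsPGroup.iff_orderOf.mp (CfsgLib.isPGroup_pCore 2) (⟨s, hs⟩ : S)
      rw [Subgroup.orderOf_mk] at hk
      rw [← pow_two]
      refine orderOf_dvd_iff_pow_eq_one.mp ?_
      rcases k with _ | _ | k
      · rw [hk]; exact one_dvd 2
      · rw [hk]; norm_num
      · exfalso
        refine h4 (s ^ 2 ^ k) (pow_mem hs _) ?_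
        rw [orderOf_pow' s (Nat.two_pow_pos k).ne', hk, show 2 ^ (k + 1 + 1) = 2 ^ k * 4 by ring,
          Nat.gcd_eq_right (dvd_mul_right _ _), Nat.mul_div_cancel_left _ (Nat.two_pow_pos _)]
    have hsub : ∀ s ∈ S, s ∈ zpowers (f (QuaternionGroup.a ((2 ^ n : ℕ) : ZMod (2 * 2 ^ n)))) := by
      intro s hs
      obtain ⟨q, rfl⟩ := hSP hs
      rcases quat_involution (hfinj (by rw [map_mul, map_one]; exact h2 _ hs) : q * q = 1) with rfl | rfl
      · rw [map_one]; exact one_mem _
      · exact mem_zpowers _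
    have hcard : Nat.card S ≤ 2 := by
      refine (card_le_of_le (K := zpowers (f (QuaternionGroup.a ((2 ^ n : ℕ) : ZMod (2 * 2 ^ n))))) hsub).trans ?_
      rw [Nat.card_zpowers]
      refine orderOf_le_of_pow_eq_one two_pos ?_
      rw [← map_pow, pow_two, QuaternionGroup.a_mul_a, ← Nat.cast_add, ← two_mul, ZMod.natCast_self,
        ← QuaternionGroup.one_def, map_one]
    have hScen : S ≤ center (G ⧸ R) := by
      intro s hs
      rw [mem_center_iff]
      intro g
      rcases eq_or_ne s 1 with rfl | hs1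
      · simp
      by_contra hgs
      have h3 : ({1, s, g * s * g⁻¹} : Set (G ⧸ R)) ⊆ S := by
        rintro t (rfl | rfl | rfl)
        exacts [one_mem _, hs, (inferInstance : S.Normal).conj_mem s hs g]
      have hne1 : g * s * g⁻¹ ≠ 1 := fun h => hs1 (conj_eq_one_iff.mp h)
      have hnes : g * s * g⁻¹ ≠ s := fun h => hgs (mul_inv_eq_iff_eq_mul.mp h)
      classical
      have h5 : ({1, s, g * s * g⁻¹} : Finset (G ⧸ R)).card = 3 :=
        Finset.card_eq_three.mpr ⟨_, _, _, hs1.symm, hne1.symm, hnes.symm, rfl⟩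
      have h6 : ({1, s, g * s * g⁻¹} : Finset (G ⧸ R)).card ≤ Nat.card S := by
        rw [← Nat.card_eq_finsetCard]
        exact Nat.card_le_card_of_injective (fun t => (⟨t.1, h3 (by have ht := t.2; simp only [Finset.mem_insert, Finset.mem_singleton] at ht; exact ht)⟩ : S))
          fun a b h => Subtype.ext (Subtype.mk.inj h)
        
      omega
    have htop : (⊤ : Subgroup (G ⧸ R)) ≤ S := by
      refine le_trans ?_ hC
      rw [top_le_iff, centralizer_eq_top_iff_subset]
      exact hScen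
    have h8 : Nat.card (QuaternionGroup (2 ^ n)) ≤ Nat.card S :=
      (Nat.card_le_card_of_injective f hfinj).trans
        (Subgroup.card_top (G := G ⧸ R) ▸ card_le_of_le htop)
    rw [Nat.card_eq_fintype_card, QuaternionGroup.card] at h8
    have := Nat.two_pow_pos n
    omega

/-- The order of a Sylow `2`-subgroup which is neither cyclic nor of exponent two. -/
theorem sylow_two [Finite G] [Group.IsSolvable G] (hB : HB G) (P : Sylow 2 G) :
    IsCyclic (P : Subgroup G) ∨ Nonempty ((P : Subgroup G) ≃* QuaternionGroup 2) ∨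
      ∀ x ∈ (P : Subgroup G), x ^ 2 = 1 := by
  rcases trichotomy hB P with h | ⟨-, n, hn, ⟨e⟩⟩ | h
  · exact Or.inl h
  · obtain rfl := quaternion_eq_one hB P hn e
    exact Or.inr (Or.inl ⟨e⟩)
  · exact Or.inr (Or.inr h)

theorem card_le_two_of_exponent {P : Type u} [Group P] [Finite P]
    (hP : IsCyclic P ∨ Nonempty (P ≃* QuaternionGroup 2)) {K : Subgroup P} (h : ∀ x ∈ K, x ^ 2 = 1) :
    Nat.card K ≤ 2 := by
  classical
  haveI := Fintype.ofFinite P
  have hsub : (K : Set P).toFinset ⊆ Finset.univ.filter fun y : P => y ^ 2 = 1 := by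
    intro y hy
    simpa using h y (Set.mem_toFinset.mp hy)
  have h1 : Nat.card K = (K : Set P).toFinset.card := by
    rw [Nat.card_eq_fintype_card, Set.toFinset_card]; rfl
  rw [h1]
  refine (Finset.card_le_card hsub).trans ?_
  rcases hP with hc | ⟨⟨e⟩⟩
  · exact IsCyclic.card_pow_eq_one_le two_pos
  · refine le_trans (le_of_eq ?_)
      (le_of_eq (by decide : (Finset.univ.filter fun y : QuaternionGroup 2 => y * y = 1).card = 2))
    rw [← Finset.card_map e.toEquiv.toEmbedding]
    congr 1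
    ext y
    simp only [Finset.mem_map_equiv, Finset.mem_filter, Finset.mem_univ, true_and]
    rw [← e.injective.eq_iff, map_pow, map_one, pow_two]
    simp

end CfsgLib.EqualOrder.Solv
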