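import Mathlib
import Cfsg.Agent.Lib.EqualOrder.Solvable
import Cfsg.Agent.Lib.CoprimeGen
import Cfsg.Agent.S3912

/-! Solvable coprime linear groups, transitive on cyclic subgroups, whose abelian subgroups of equal order are
conjugate: odd Sylow subgroups are cyclic and a quaternion Sylow subgroup is normal. -/

set_option autoImplicit false

namespace CfsgLib.EqualOrder.Solv

open Cfsg Subgroup
open scoped IsMulCommutative commutatorElement

universe u

theorem q8_card : Nat.card (QuaternionGroup 2) = 8 := by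
  rw [Nat.card_eq_fintype_card, QuaternionGroup.card]

theorem four_dvd_card_aut_q8 : 4 ∣ Nat.card (MulAut (QuaternionGroup 2)) := by
  have h1 := Subgroup.card_subgroup_dvd_card (MulAut.conj (G := QuaternionGroup 2)).range
  refine dvd_trans (dvd_of_eq ?_) h1
  have hk : Nat.card (MulAut.conj (G := QuaternionGroup 2)).ker = 2 := by
    have : ∀ x : QuaternionGroup 2, x ∈ (MulAut.conj (G := QuaternionGroup 2)).ker ↔ ∀ y, x * y = y * x := by
      intro x
      rw [MonoidHom.mem_ker]
      constructor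
      · intro h y
        have := DFunLike.congr_fun h y
        simp only [MulAut.conj_apply, MulAut.one_apply] at this
        exact mul_inv_eq_iff_eq_mul.mp this
      · intro h
        ext y
        rw [MulAut.conj_apply, MulAut.one_apply]
        exact mul_inv_eq_iff_eq_mul.mpr (h y)
    rw [Nat.card_congr (Equiv.subtypeEquivRight this), Nat.card_eq_fintype_card]
    decide
  have h2 := Subgroup.card_eq_card_quotient_mul_card_subgroup (MulAut.conj (G := QuaternionGroup 2)).ker
  rw [Nat.card_congr (QuotientGroup.quotientKerEquivRange (MulAut.conj (G := QuaternionGroup 2))).toEquiv, hk,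
    q8_card] at h2
  omega

theorem isCyclic_of_le_two {P : Type u} [Group P] [Finite P] (h : Nat.card P ≤ 2) : IsCyclic P := by
  have h1 : 0 < Nat.card P := Nat.card_pos
  interval_cases hc : Nat.card P
  · haveI := (Nat.card_eq_one_iff_unique.mp hc).1; infer_instance
  · haveI := Fact.mk Nat.prime_two; exact isCyclic_of_prime_card (p := 2) hc

theorem card_le_of_exponent {P : Type u} [Group P] [Finite P] [IsCyclic P] {m : ℕ} (hm : 0 < m)
    (h : ∀ x : P, x ^ m = 1) : Nat.card P ≤ m := by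
  classical
  haveI := Fintype.ofFinite P
  have := IsCyclic.card_pow_eq_one_le (α := P) hm
  rw [Finset.filter_true_of_mem (fun x _ => h x), Finset.card_univ, ← Nat.card_eq_fintype_card] at this
  exact this

theorem sq_le_card {q : ℕ} [Fact q.Prime] {P : Type u} [Group P] [Finite P] (hP : IsPGroup q P)
    (hnc : ¬ IsCyclic P) : q ^ 2 ∣ Nat.card P := by
  obtain ⟨k, hk⟩ := IsPGroup.iff_card.mp hP
  rcases k with _ | _ | k
  · haveI := (Nat.card_eq_one_iff_unique.mp hk).1; exact (hnc inferInstance).elim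
  · exact absurd (isCyclic_of_prime_card (p := q) (by rw [hk, zero_add, pow_one])) hnc
  · rw [hk]; exact pow_dvd_pow q (by omega)

/-- No automorphism group of a cyclic or quaternion `r`-group contains a noncyclic group of prime exponent `q ≠ r`. -/
theorem not_injective_aut {R : Type u} [Group R] [Finite R] {r : ℕ} [Fact r.Prime] (hR : IsPGroup r R)
    (hc : IsCyclic R ∨ Nonempty (R ≃* QuaternionGroup 2)) {Q : Type u} [Group Q] [Finite Q] {q : ℕ} [Fact q.Prime]
    (hqr : q ≠ r) (hQ : IsPGroup q Q) (hnc : ¬ IsCyclic Q) (φ : Q →* MulAut R) : ¬ Function.Injective φ := by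
  intro hinj
  have hr : r.Prime := Fact.out
  have hq : q.Prime := Fact.out
  rcases hc with hc | ⟨⟨e⟩⟩
  · obtain ⟨b, hb⟩ := IsPGroup.iff_card.mp hR
    let ψ := (IsCyclic.mulAutMulEquiv R).toMonoidHom.comp φ
    have hψ : Function.Injective ψ := (IsCyclic.mulAutMulEquiv R).injective.comp hinj
    rcases eq_or_ne r 2 with rfl | hr2
    · obtain ⟨a, ha⟩ := IsPGroup.iff_card.mp hQ
      have h1 := Subgroup.card_subgroup_dvd_card ψ.range
      rw [← Nat.card_congr (MonoidHom.ofInjective hψ).toEquiv, hb, ha, Nat.card_eq_fintype_card,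
        ZMod.card_units_eq_totient] at h1
      have h2 : q ^ 2 ∣ q ^ a := ha ▸ sq_le_card hQ hnc
      rcases b with _ | b
      · rw [pow_zero, Nat.totient_one] at h1
        exact hq.one_lt.ne' (Nat.dvd_one.mp (((dvd_pow_self q two_ne_zero).trans h2).trans h1))
      · rw [Nat.totient_prime_pow Nat.prime_two (Nat.succ_pos b), show 2 - 1 = 1 from rfl, mul_one] at h1
        exact hqr ((Nat.prime_dvd_prime_iff_eq hq Nat.prime_two).mp
          (hq.dvd_of_dvd_pow (((dvd_pow_self q two_ne_zero).trans h2).trans h1)))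
    · haveI : IsCyclic (ZMod (Nat.card R))ˣ := by rw [hb]; exact ZMod.isCyclic_units_of_prime_pow r hr hr2 b
      exact hnc (isCyclic_of_injective ψ hψ)
  · have h8 : Nat.card R = 8 := by rw [Nat.card_congr e.toEquiv, q8_card]
    have hr2 : r = 2 := by
      obtain ⟨b, hb⟩ := IsPGroup.iff_card.mp hR
      rw [h8] at hb
      rcases b with _ | b
      · simp at hb
      · have h2 : r ∣ 2 ^ 3 := by rw [show (2 : ℕ) ^ 3 = 8 from rfl, hb]; exact dvd_pow_self r (Nat.succ_ne_zero b)
        exact (Nat.prime_dvd_prime_iff_eq hr Nat.prime_two).mp (hr.dvd_of_dvd_pow h2)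
    subst hr2
    let ψ := (MulAut.congr e).toMonoidHom.comp φ
    have hψ : Function.Injective ψ := (MulAut.congr e).injective.comp hinj
    have h1 : Nat.card Q ∣ Nat.card (MulAut (QuaternionGroup 2)) := by
      rw [Nat.card_congr (MonoidHom.ofInjective hψ).toEquiv]
      exact Subgroup.card_subgroup_dvd_card _
    have hcop : Nat.Coprime 4 (q ^ 2) := by
      rw [show (4 : ℕ) = 2 ^ 2 from rfl]
      exact Nat.Coprime.pow _ _ ((Nat.coprime_primes Nat.prime_two hq).mpr (Ne.symm hqr))
    haveI : Finite (MulAut (QuaternionGroup 2)) :=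
      Finite.of_injective (fun a => (a : QuaternionGroup 2 → QuaternionGroup 2)) DFunLike.coe_injective
    have h2 := Nat.le_of_dvd Nat.card_pos (hcop.mul_dvd_of_dvd_of_dvd four_dvd_card_aut_q8 ((sq_le_card hQ hnc).trans h1))
    have h3 : 3 ≤ q := by
      have := hq.two_le
      omega
    have h4 := CfsgLib.Quat.card_aut_le
    nlinarith

section Linear

variable {X : Type u} [Group X] [Finite X]
variable {V : Type u} [CommGroup V] [Finite V]

/-- A transitive linear group of coprime order: every normal abelian subgroup of prime exponent is cyclic. -/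
theorem abelian_normal_cyclic (f : X →* MulAut V) (hinj : Function.Injective f)
    (hcop : (Nat.card X).Coprime (Nat.card V))
    (htr : ∀ v w : V, v ≠ 1 → w ≠ 1 → ∃ x, f x v ∈ zpowers w ∧ w ∈ zpowers (f x v))
    [Nontrivial V] (E : Subgroup X) [hE : E.Normal] (hab : IsMulCommutative E) {q : ℕ} [Fact q.Prime]
    (hexp : ∀ e ∈ E, e ^ q = 1) : IsCyclic E := by
  by_contra hnc
  haveI := hab
  have hq : q.Prime := Fact.out
  have hqX : q ∣ Nat.card X :=
    ((dvd_pow_self q two_ne_zero).trans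
      (sq_le_card (P := E) (fun x => ⟨1, Subtype.ext (by simpa using hexp x x.2)⟩) hnc)).trans
      (card_subgroup_dvd_card E)
  -- a fixed point of a nontrivial element
  obtain ⟨e, he, he1, v, hv1, hev⟩ : ∃ e ∈ E, e ≠ 1 ∧ ∃ v : V, v ≠ 1 ∧ f e v = v := by
    by_contra hno
    push Not at hno
    obtain ⟨q', hq', a, b, ha, hb, hba⟩ := CfsgLib.exists_two_generators_of_not_cyclic hnc
    have hqq : q' = q := (Nat.prime_dvd_prime_iff_eq hq' hq).mp (ha ▸ orderOf_dvd_of_pow_eq_one
      (Subtype.ext (by simpa using hexp a a.2)))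
    subst hqq
    haveI : NeZero q' := ⟨hq'.ne_zero⟩
    let φ : ZMod q' × ZMod q' → (V →* V) := fun t => (f ((a ^ t.1.val * b ^ t.2.val : E) : X)).toMonoidHom
    have hpow : ∀ (c : E), orderOf c = q' → ∀ i j : ZMod q', c ^ (i + j).val = c ^ i.val * c ^ j.val := by
      intro c hc i j
      rw [← pow_add, ZMod.val_add, ← pow_mod_orderOf c (i.val + j.val), hc]
    obtain ⟨v, hv⟩ := exists_ne (1 : V)
    refine hv ((Subgroup.mem_bot).mp (CfsgLib.mem_of_fixed_le hq' (hcop.coprime_dvd_left hqX) φ ?_ ?_ ⊥ ?_ v))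
    · intro i j w
      change f _ w = f _ (f _ w)
      rw [← MulAut.mul_apply, ← map_mul, ← Subgroup.coe_mul]
      congr 3
      rw [Prod.fst_add, Prod.snd_add, hpow a ha, hpow b hb, mul_mul_mul_comm]
    · intro w
      change f _ w = w
      simp
    · intro t ht w hw
      rw [Subgroup.mem_bot]
      by_contra hw1
      refine hno _ (a ^ t.1.val * b ^ t.2.val : E).2 ?_ w hw1 hw
      intro h1
      have h2 : a ^ t.1.val * b ^ t.2.val = 1 := Subtype.ext h1
      rcases eq_or_ne t.2 0 with ht2 | ht2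
      · rw [ht2, ZMod.val_zero, pow_zero, mul_one] at h2
        have h3 := orderOf_dvd_of_pow_eq_one h2
        rw [ha] at h3
        have ht1 : t.1 = 0 := (ZMod.val_eq_zero _).mp (Nat.eq_zero_of_dvd_of_lt h3 (ZMod.val_lt _))
        exact ht (Prod.ext ht1 ht2)
      · have h3 : b ^ t.2.val ∈ zpowers a := by
          rw [mul_eq_one_iff_inv_eq.mp h2 |>.symm]
          exact inv_mem (pow_mem (mem_zpowers a) _)
        have hcp : (t.2.val).Coprime (orderOf b) := by
          rw [hb]
          refine ((hq'.coprime_iff_not_dvd).mpr fun h => ht2 ((ZMod.val_eq_zero _).mp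
            (Nat.eq_zero_of_dvd_of_lt h (ZMod.val_lt _)))).symm
        obtain ⟨m, hm⟩ := exists_pow_eq_self_of_coprime hcp
        exact hba (hm ▸ pow_mem h3 m)
  let S : V → Subgroup X := fun u =>
    { carrier := {x | x ∈ E ∧ f x u = u}
      one_mem' := ⟨one_mem E, by simp⟩
      mul_mem' := fun {x y} hx hy => ⟨mul_mem hx.1 hy.1, by rw [map_mul, MulAut.mul_apply, hy.2, hx.2]⟩
      inv_mem' := fun {x} hx => ⟨inv_mem hx.1, by
        conv_lhs => rw [← hx.2]
        rw [← MulAut.mul_apply, ← map_mul, inv_mul_cancel, map_one, MulAut.one_apply]⟩ }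
  have hS : ∀ u w : V, u ≠ 1 → w ≠ 1 → Nat.card (S u) ≤ Nat.card (S w) := by
    intro u w hu hw
    obtain ⟨x, -, hx2⟩ := htr u w hu hw
    refine Nat.card_le_card_of_injective
      (fun a : S u => (⟨x * a * x⁻¹, hE.conj_mem a a.2.1 x, ?_⟩ : S w)) fun a b h => Subtype.ext ?_
    · obtain ⟨i, rfl⟩ := hx2
      simp only [map_zpow]
      congr 1
      rw [map_mul, map_mul, MulAut.mul_apply, MulAut.mul_apply, map_inv, MulAut.inv_apply, MulEquiv.symm_apply_apply,
        a.2.2]
    · simpa using congrArg Subtype.val h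
  let φ : V →* V := (f e).toMonoidHom * (MonoidHom.id V)⁻¹
  have hφ : ∀ u, φ u = f e u * u⁻¹ := fun u => rfl
  have hdisj : ∀ u, φ (φ u) = 1 → φ u = 1 := by
    intro u hu
    set w := φ u
    have hw : f e w = w := by rw [hφ, mul_inv_eq_one] at hu; exact hu
    have heu : f e u = w * u := by simp [w, hφ]
    have hi : ∀ i : ℕ, f (e ^ i) u = w ^ i * u := by
      intro i
      induction i with
      | zero => simp
      | succ i ih => rw [pow_succ', map_mul, MulAut.mul_apply, ih, map_mul, map_pow, hw, heu, pow_succ, mul_assoc]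
    have h1 := hi (Nat.card X)
    rw [pow_card_eq_one', map_one, MulAut.one_apply, eq_comm, mul_eq_right] at h1
    exact orderOf_eq_one_iff.mp (Nat.eq_one_of_dvd_coprimes hcop (orderOf_dvd_of_pow_eq_one h1)
      (orderOf_dvd_natCard w))
  obtain ⟨u, hu⟩ : ∃ u, f e u ≠ u := by
    by_contra h
    push Not at h
    exact he1 (hinj (by rw [map_one]; exact MulEquiv.ext h))
  set w := φ u with hwdef
  have hw1 : w ≠ 1 := fun h => hu (by rw [hwdef, hφ, mul_inv_eq_one] at h; exact h)
  have hcommφ : ∀ a ∈ E, ∀ u, φ (f a u) = f a (φ u) := by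
    intro a ha u
    rw [hφ, hφ, map_mul, map_inv, ← MulAut.mul_apply, ← MulAut.mul_apply, ← map_mul, ← map_mul,
      CfsgLib.EqualOrder.mem_centralizer_self hab he ha]
  have hvw : v * w ≠ 1 := by
    intro h
    have h2 : φ w = 1 := by
      rw [eq_inv_of_mul_eq_one_right h, map_inv, hφ, hev, mul_inv_cancel, inv_one]
    exact hw1 (hdisj u h2)
  have hle : S (v * w) ≤ S v := by
    rintro a ⟨ha, hav⟩
    refine ⟨ha, ?_⟩
    rw [map_mul] at hav
    have h0 : f a v * v⁻¹ = φ (u * (f a u)⁻¹) := by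
      rw [map_mul φ, map_inv φ, hcommφ a ha u, ← hwdef, eq_mul_inv_of_mul_eq hav, mul_inv_eq_iff_eq_mul]
      ac_rfl
    have h1 : φ (f a v * v⁻¹) = 1 := by
      rw [map_mul, map_inv, hcommφ a ha v, show φ v = 1 by rw [hφ, hev, mul_inv_cancel]]
      simp
    rw [h0] at h1
    have h2 := hdisj _ h1
    rw [← h0, mul_inv_eq_one] at h2
    exact h2
  have heq : S (v * w) = S v := eq_of_le_of_card_ge hle (hS v (v * w) hv1 hvw)
  have h1 : e ∈ S (v * w) := heq ▸ (⟨he, hev⟩ : e ∈ S v)
  have h2 := h1.2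
  rw [map_mul, hev, mul_right_inj] at h2
  exact hw1 (hdisj u (show φ w = 1 by rw [hφ, h2, mul_inv_cancel]))

variable [Group.IsSolvable X]

/-- A Sylow subgroup meeting a nontrivial core is cyclic or quaternion. -/
theorem core_sylow (hB : HB X) (f : X →* MulAut V) (hinj : Function.Injective f)
    (hcop : (Nat.card X).Coprime (Nat.card V))
    (htr : ∀ v w : V, v ≠ 1 → w ≠ 1 → ∃ x, f x v ∈ zpowers w ∧ w ∈ zpowers (f x v))
    [Nontrivial V] {r : ℕ} [Fact r.Prime] (R : Sylow r X) (hO : pCore r X ≠ ⊥) :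
    IsCyclic (R : Subgroup X) ∨ (r = 2 ∧ Nonempty ((R : Subgroup X) ≃* QuaternionGroup 2)) := by
  rcases trichotomy hB R with h | ⟨rfl, n, hn, ⟨e⟩⟩ | hexp
  · exact Or.inl h
  · obtain rfl := quaternion_eq_one hB R hn e
    exact Or.inr ⟨rfl, ⟨e⟩⟩
  · left
    have hdvd : ∀ {K : Subgroup X}, IsPGroup r K → K ≠ ⊥ → r ∣ Nat.card K := by
      intro K hK hne
      obtain ⟨k, hk⟩ := IsPGroup.iff_card.mp hK
      rcases k with _ | k
      · exact absurd (card_eq_one.mp (by rw [hk, pow_zero])) hne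
      · rw [hk]; exact dvd_pow_self r (Nat.succ_ne_zero k)
    have hR : (R : Subgroup X) = pCore r X := le_antisymm
      (fun x hx => hB.mem_normal_prime (hdvd (CfsgLib.isPGroup_pCore r) hO) (hexp x hx)) (CfsgLib.pCore_le_sylow R)
    haveI : (R : Subgroup X).Normal := by rw [hR]; infer_instance
    haveI : Nontrivial (R : Subgroup X) := (nontrivial_iff_ne_bot _).mpr (hR ▸ hO)
    haveI := R.2.center_nontrivial
    set Z := (center (R : Subgroup X)).map (R : Subgroup X).subtype with hZ
    haveI : Z.Normal := inferInstance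
    have hZne : Z ≠ ⊥ := fun h => (nontrivial_iff_ne_bot _).mp inferInstance
      ((map_eq_bot_iff_of_injective _ (R : Subgroup X).subtype_injective).mp h)
    have hle : (R : Subgroup X) ≤ Z := fun x hx =>
      hB.mem_normal_prime (hdvd ((R.2.to_subgroup (center (R : Subgroup X))).map _) hZne) (hexp x hx)
    have hab : IsMulCommutative (R : Subgroup X) := by
      refine ⟨⟨fun a b => ?_⟩⟩
      obtain ⟨a', ha', ea⟩ := hle a.2
      obtain rfl : a' = a := Subtype.ext ea
      exact (mem_center_iff.mp ha' b).symm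
    exact abelian_normal_cyclic f hinj hcop htr (R : Subgroup X) hab hexp

theorem core_cyclic_or_quat (hB : HB X) (f : X →* MulAut V) (hinj : Function.Injective f)
    (hcop : (Nat.card X).Coprime (Nat.card V))
    (htr : ∀ v w : V, v ≠ 1 → w ≠ 1 → ∃ x, f x v ∈ zpowers w ∧ w ∈ zpowers (f x v))
    [Nontrivial V] {r : ℕ} [Fact r.Prime] :
    IsCyclic (pCore r X) ∨ Nonempty (pCore r X ≃* QuaternionGroup 2) := by
  by_cases hO : pCore r X = ⊥
  · left; rw [hO]; infer_instance
  obtain ⟨R⟩ : Nonempty (Sylow r X) := inferInstance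
  have hle := CfsgLib.pCore_le_sylow R
  rcases core_sylow hB f hinj hcop htr R hO with h | ⟨rfl, ⟨e⟩⟩
  · left; exact isCyclic_of_injective (inclusion hle) (inclusion_injective hle)
  · by_cases h8 : Nat.card (R : Subgroup X) ≤ Nat.card (pCore 2 X)
    · right; rw [eq_of_le_of_card_ge hle h8]; exact ⟨e⟩
    left
    obtain ⟨k, hk⟩ := IsPGroup.iff_card.mp (CfsgLib.isPGroup_pCore (G := X) 2)
    rw [Nat.card_congr e.toEquiv, q8_card, hk] at h8
    have hk2 : k ≤ 2 := by
      by_contra hc
      exact h8 (le_trans (by norm_num) (Nat.pow_le_pow_right (n := 2) two_pos (show 3 ≤ k by omega)))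
    have hKc : ∀ K : Subgroup (R : Subgroup X), Nat.card K ≤ 4 → IsCyclic K := by
      intro K hK
      by_contra hnc
      have h4 : 2 ^ 2 ∣ Nat.card K := sq_le_card (R.2.to_subgroup K) hnc
      have h5 : Nat.card K = 2 ^ 2 := le_antisymm hK (Nat.le_of_dvd Nat.card_pos h4)
      have h6 : ∀ x ∈ K, x ^ 2 = 1 := by
        intro x hx
        by_contra hx2
        refine hnc (isCyclic_of_orderOf_eq_card ⟨x, hx⟩ ?_)
        rw [Subgroup.orderOf_mk, h5]
        obtain ⟨j, hj⟩ := IsPGroup.iff_orderOf.mp R.2 x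
        have hj2 : j ≤ 2 := (Nat.pow_dvd_pow_iff_le_right (by norm_num)).mp
          (hj ▸ h5 ▸ Subgroup.orderOf_dvd_natCard K hx : 2 ^ j ∣ 2 ^ 2)
        have hj3 : ¬ j ≤ 1 := fun h => hx2 (orderOf_dvd_iff_pow_eq_one.mp
          (by rw [hj]; exact (pow_dvd_pow 2 h).trans (dvd_of_eq (pow_one 2))))
        rw [hj, show j = 2 by omega]
      have := card_le_two_of_exponent (Or.inr ⟨e⟩) h6
      omega
    have := hKc ((pCore 2 X).subgroupOf R) (by
      rw [Nat.card_congr (subgroupOfEquivOfLe hle).toEquiv, hk]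
      exact le_trans (Nat.pow_le_pow_right (n := 2) two_pos hk2) (by norm_num))
    exact (subgroupOfEquivOfLe hle).isCyclic.mp this

omit [Finite X] [Group.IsSolvable X] in
theorem mem_ker_conjNormal {N : Subgroup X} [N.Normal] {x : X} :
    x ∈ (MulAut.conjNormal : X →* MulAut N).ker ↔ x ∈ centralizer (N : Set X) := by
  rw [MonoidHom.mem_ker, mem_centralizer_iff]
  constructor
  · intro h n hn
    have := congrArg Subtype.val (DFunLike.congr_fun h ⟨n, hn⟩)
    simp only [MulAut.conjNormal_apply, MulAut.one_apply] at this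
    exact (mul_inv_eq_iff_eq_mul.mp this).symm
  · intro h
    ext ⟨n, hn⟩
    simp only [MulAut.conjNormal_apply, MulAut.one_apply]
    exact mul_inv_eq_iff_eq_mul.mpr (h n hn).symm

/-- The Sylow subgroups. -/
theorem linear_sylow (hB : HB X) (f : X →* MulAut V) (hinj : Function.Injective f)
    (hcop : (Nat.card X).Coprime (Nat.card V))
    (htr : ∀ v w : V, v ≠ 1 → w ≠ 1 → ∃ x, f x v ∈ zpowers w ∧ w ∈ zpowers (f x v))
    [Nontrivial V] {q : ℕ} [Fact q.Prime] (Q : Sylow q X) (hexp : ∀ x ∈ (Q : Subgroup X), x ^ q = 1) :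
    IsCyclic (Q : Subgroup X) := by
  by_contra hnc
  have hO : pCore q X = ⊥ := by
    by_contra h
    rcases core_sylow hB f hinj hcop htr Q h with h' | ⟨rfl, ⟨e⟩⟩
    · exact hnc h'
    · have := congrArg e (show (e.symm (QuaternionGroup.a 1)) ^ 2 = 1 from Subtype.ext (by simpa using hexp _ (e.symm (QuaternionGroup.a 1)).2))
      rw [map_pow, MulEquiv.apply_symm_apply, map_one, pow_two] at this
      exact absurd this (by decide)
  have hQF : (Q : Subgroup X) ≤ centralizer (fittingSubgroup X : Set X) := by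
    rw [Subgroup.le_centralizer_iff, CfsgLib.fittingSubgroup_eq_iSup_pCore]
    refine iSup_le fun r => ?_
    haveI := Fact.mk r.2
    rw [← Subgroup.le_centralizer_iff]
    rcases eq_or_ne q (r : ℕ) with hqr | hqr
    · rw [← hqr, hO]
      intro x _
      rw [mem_centralizer_iff]
      intro y hy
      rw [mem_bot.mp hy, one_mul, mul_one]
    · set φ : X →* MulAut (pCore (r : ℕ) X) := MulAut.conjNormal
      have hni := not_injective_aut (CfsgLib.isPGroup_pCore (r : ℕ))
        (core_cyclic_or_quat hB f hinj hcop htr) hqr Q.2 hnc (φ.comp (Q : Subgroup X).subtype)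
      rw [← MonoidHom.ker_eq_bot_iff] at hni
      obtain ⟨⟨e, he⟩, he1⟩ := Subgroup.ne_bot_iff_exists_ne_one.mp hni
      have he' : (e : X) ∈ φ.ker := he
      have heo : orderOf (e : X) = q := orderOf_eq_prime (hexp e e.2) (fun h => he1 (Subtype.ext (Subtype.ext h)))
      intro x hx
      rcases eq_or_ne x 1 with rfl | hx1
      · exact one_mem _
      exact mem_ker_conjNormal.mp (hB.mem_normal he' (by rw [heo, orderOf_eq_prime (hexp x hx) hx1]))
  have hle := le_pCore_of_le_fitting Q.2 (hQF.trans CfsgLib.centralizer_fitting_le)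
  rw [hO, le_bot_iff] at hle
  exact hnc (by rw [hle]; infer_instance)

/-- A quaternion Sylow subgroup is normal. -/
theorem quat_normal (hB : HB X) (f : X →* MulAut V) (hinj : Function.Injective f)
    (hcop : (Nat.card X).Coprime (Nat.card V))
    (htr : ∀ v w : V, v ≠ 1 → w ≠ 1 → ∃ x, f x v ∈ zpowers w ∧ w ∈ zpowers (f x v))
    [Nontrivial V] (R : Sylow 2 X) (e : (R : Subgroup X) ≃* QuaternionGroup 2) :
    (R : Subgroup X).Normal := by
  haveI := Fact.mk Nat.prime_two
  suffices h : (R : Subgroup X) = pCore 2 X by rw [h]; infer_instance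
  refine le_antisymm ?_ (CfsgLib.pCore_le_sylow R)
  by_contra hne
  -- the commutator subgroup centralises every core
  have hFcomm : ∀ a b : X, ⁅a, b⁆ ∈ fittingSubgroup X := by
    intro a b
    refine CfsgLib.centralizer_fitting_le ?_
    suffices h : fittingSubgroup X ≤ centralizer ({⁅a, b⁆} : Set X) by
      rw [mem_centralizer_iff]
      intro y hy
      exact (mem_centralizer_iff.mp (h hy) _ rfl).symm
    rw [CfsgLib.fittingSubgroup_eq_iSup_pCore]
    refine iSup_le fun r => ?_
    haveI := Fact.mk r.2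
    rcases core_cyclic_or_quat hB f hinj hcop htr (r := (r : ℕ)) with hc | ⟨⟨e'⟩⟩
    · have h1 : ⁅a, b⁆ ∈ (MulAut.conjNormal : X →* MulAut (pCore (r : ℕ) X)).ker := by
        rw [MonoidHom.mem_ker, map_commutatorElement, commutatorElement_eq_one_iff_mul_comm]
        refine (IsCyclic.mulAutMulEquiv _).injective ?_
        rw [map_mul, map_mul, mul_comm]
      intro y hy
      rw [mem_centralizer_iff]
      rintro _ rfl
      exact (mem_centralizer_iff.mp (mem_ker_conjNormal.mp h1) y hy).symm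
    · exfalso
      have h8 : Nat.card (pCore (r : ℕ) X) = 8 := by rw [Nat.card_congr e'.toEquiv, q8_card]
      have hr2 : (r : ℕ) = 2 := by
        obtain ⟨k, hk⟩ := IsPGroup.iff_card.mp (CfsgLib.isPGroup_pCore (G := X) (r : ℕ))
        rw [h8] at hk
        rcases k with _ | k
        · simp at hk
        · have h2 : (r : ℕ) ∣ 2 ^ 3 := by rw [show (2 : ℕ) ^ 3 = 8 from rfl, hk]; exact dvd_pow_self _ (Nat.succ_ne_zero k)
          exact (Nat.prime_dvd_prime_iff_eq r.2 Nat.prime_two).mp (r.2.dvd_of_dvd_pow h2)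
      rw [hr2] at h8
      exact hne (eq_of_le_of_card_ge (CfsgLib.pCore_le_sylow R) (by rw [Nat.card_congr e.toEquiv, q8_card, h8])).ge
  set π := QuotientGroup.mk' (fittingSubgroup X)
  have hab : ∀ a b, π a * π b = π b * π a := by
    intro a b
    rw [← commutatorElement_eq_one_iff_mul_comm, ← map_commutatorElement]
    exact (QuotientGroup.eq_one_iff _).mpr (hFcomm a b)
  let g : QuaternionGroup 2 →* X := (R : Subgroup X).subtype.comp e.symm.toMonoidHom
  have hg : ∀ x, orderOf (g x) = orderOf x := fun x =>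
    orderOf_injective g ((R : Subgroup X).subtype_injective.comp e.symm.injective) x
  have hsame : ∀ x y : QuaternionGroup 2, orderOf x = 4 → orderOf y = 4 → π (g y) ∈ zpowers (π (g x)) := by
    intro x y hx hy
    obtain ⟨c, -, hc⟩ := hB.exists_conj_mem (x := g x) (y := g y) (by rw [hg, hg, hx, hy])
    obtain ⟨i, hi⟩ := hc
    refine ⟨i, ?_⟩
    simp only
    rw [← hi, map_zpow, map_mul, map_mul, hab c, mul_assoc, ← map_mul, mul_inv_cancel, map_one, mul_one]
  haveI : NeZero (2 : ℕ) := ⟨two_ne_zero⟩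
  set K : Subgroup (QuaternionGroup 2) := (π.comp g).ker
  have h4 : ∀ i, orderOf (QuaternionGroup.xa i : QuaternionGroup 2) = 4 := QuaternionGroup.orderOf_xa
  have ha4 : orderOf (QuaternionGroup.a 1 : QuaternionGroup 2) = 4 := by rw [QuaternionGroup.orderOf_a_one]
  obtain ⟨i, hi⟩ := hsame _ _ ha4 (h4 0)
  have hk : QuaternionGroup.xa 0 * ((QuaternionGroup.a 1 : QuaternionGroup 2) ^ i)⁻¹ ∈ K := by
    rw [MonoidHom.mem_ker, map_mul, map_inv, map_zpow]
    simp only at hi
    change π (g (QuaternionGroup.xa 0)) * (π (g (QuaternionGroup.a 1)) ^ i)⁻¹ = 1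
    rw [hi, mul_inv_cancel]
  obtain ⟨j, hj⟩ : ∃ j, QuaternionGroup.xa 0 * ((QuaternionGroup.a 1 : QuaternionGroup 2) ^ i)⁻¹ = QuaternionGroup.xa j := by
    obtain ⟨n, hn⟩ : ∃ n : ℕ, ((QuaternionGroup.a 1 : QuaternionGroup 2) ^ i)⁻¹ = QuaternionGroup.a 1 ^ n := by
      rw [← zpow_neg]
      obtain ⟨n, hn⟩ := (isOfFinOrder_of_finite (QuaternionGroup.a 1 : QuaternionGroup 2)).mem_zpowers_iff_mem_range_orderOf.mp ⟨-i, rfl⟩ |> Finset.mem_image.mp
      exact ⟨n, hn.2.symm⟩
    exact ⟨_, by rw [hn, QuaternionGroup.a_one_pow, QuaternionGroup.xa_mul_a]⟩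
  rw [hj] at hk
  have hall : ∀ y : QuaternionGroup 2, orderOf y = 4 → g y ∈ fittingSubgroup X := fun y hy =>
    hB.mem_normal (M := fittingSubgroup X) ((QuotientGroup.eq_one_iff _).mp hk) (by rw [hg, hg, h4, hy])
  refine hne (le_pCore_of_le_fitting R.2 fun x hx => ?_)
  have key : ∀ y : QuaternionGroup 2, g y ∈ fittingSubgroup X := by
    intro y
    rcases y with i | i
    · have : (QuaternionGroup.a i : QuaternionGroup 2) = QuaternionGroup.xa 0 * QuaternionGroup.xa (i - 2) := by
        rw [QuaternionGroup.xa_mul_xa]; congr 1; push_cast; abel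
      rw [this, map_mul]
      exact mul_mem (hall _ (h4 _)) (hall _ (h4 _))
    · exact hall _ (h4 _)
  have := key (e ⟨x, hx⟩)
  simpa [g] using this

omit [Finite X] [Group.IsSolvable X] in
/-- A normal non-abelian subgroup stabilises no proper nontrivial member of an orbit of all subgroups of its order. -/
theorem no_invariant {f : X →* MulAut V} (hinj : Function.Injective f) {p : ℕ} [Fact p.Prime]
    (hV : ∀ v : V, v ^ p = 1) (R : Subgroup X) [hR : R.Normal] (hna : ∃ a ∈ R, ∃ b ∈ R, a * b ≠ b * a)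
    (U : Subgroup V) (hU1 : U ≠ ⊥) (hU2 : U ≠ ⊤) (hinv : ∀ r ∈ R, ∀ x ∈ U, f r x ∈ U)
    (horb : ∀ W : Subgroup V, Nat.card W = Nat.card U → ∃ x, W = U.map (f x).toMonoidHom) : False := by
  classical
  have hp : p.Prime := Fact.out
  have hVp : IsPGroup p V := fun v => ⟨1, by rw [pow_one]; exact hV v⟩
  have hW : ∀ W : Subgroup V, Nat.card W = Nat.card U → ∀ r ∈ R, ∀ w ∈ W, f r w ∈ W := by
    intro W hW r hr w hw
    obtain ⟨x, rfl⟩ := horb W hW
    obtain ⟨u, hu, rfl⟩ := hw
    refine ⟨f (x⁻¹ * r * x) u, hinv _ (by simpa using hR.conj_mem r hr x⁻¹) u hu, ?_⟩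
    simp only [MulEquiv.coe_toMonoidHom]
    rw [← MulAut.mul_apply, ← MulAut.mul_apply, ← map_mul, ← map_mul]
    congr 2
    group
  obtain ⟨k, hk⟩ := IsPGroup.iff_card.mp (hVp.to_subgroup U)
  obtain ⟨n, hn⟩ := IsPGroup.iff_card.mp hVp
  have hk1 : 1 ≤ k := Nat.pos_of_ne_zero fun h => hU1 (card_eq_one.mp (by rw [hk, h, pow_zero]))
  have hkn : k < n := by
    refine (Nat.pow_lt_pow_iff_right hp.one_lt).mp ?_
    rw [← hk, ← hn]
    exact lt_of_not_ge fun h => hU2 (eq_top_of_le_card U h)
  have hline : ∀ r ∈ R, ∀ v : V, f r v ∈ zpowers v := by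
    intro r hr v
    by_contra hu
    set u := f r v
    rcases eq_or_ne v 1 with hv | hv
    · exact hu (by simp [u, hv])
    obtain ⟨Y, ⟨hvY, huY⟩, hmax⟩ := (Set.toFinite {Y : Subgroup V | v ∈ Y ∧ u ∉ Y}).exists_maximal
      ⟨zpowers v, mem_zpowers v, hu⟩
    have hsup : Y ⊔ zpowers u = ⊤ := by
      rw [eq_top_iff]
      intro a _
      by_cases ha : a ∈ Y
      · exact mem_sup_left ha
      have hua : u ∈ Y ⊔ zpowers a := by
        by_contra h
        exact ha (hmax ⟨mem_sup_left hvY, h⟩ le_sup_left (mem_sup_right (mem_zpowers a)))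
      obtain ⟨y, hy, b, ⟨i, rfl⟩, hyb⟩ := mem_sup.mp hua
      simp only at hyb
      have hnd : ¬ (p : ℤ) ∣ i := fun ⟨c, hc⟩ => huY (by
        rw [← hyb, hc, zpow_mul, zpow_natCast, hV a, one_zpow, mul_one]; exact hy)
      obtain ⟨c, d, hcd⟩ := (Int.isCoprime_iff_gcd_eq_one.mpr (show Int.gcd (p : ℤ) i = 1 from
        (hp.coprime_iff_not_dvd.mpr fun h => hnd (Int.natCast_dvd.mpr h))))
      have hai : a ^ i = y⁻¹ * u := by rw [← hyb, inv_mul_cancel_left]
      have ha2 : a = (y⁻¹ * u) ^ d := by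
        rw [← hai, ← zpow_mul]
        conv_lhs => rw [← zpow_one a, ← hcd, zpow_add, mul_comm c, zpow_mul, zpow_natCast, hV a, one_zpow, one_mul]
        rw [mul_comm]
      rw [ha2]
      exact zpow_mem (mul_mem (inv_mem (mem_sup_left hy)) (mem_sup_right (mem_zpowers u))) _
    obtain ⟨m, hm⟩ := IsPGroup.iff_card.mp (hVp.to_subgroup Y)
    have hkm : k ≤ m := by
      have h1 : Nat.card V ≤ Nat.card Y * Nat.card (zpowers u) := by
        rw [← Nat.card_prod]
        refine Nat.card_le_card_of_surjective (fun t : Y × zpowers u => (t.1 : V) * t.2) fun x => ?_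
        obtain ⟨y, hy, b, hb, h⟩ := mem_sup.mp (hsup ▸ mem_top x : x ∈ Y ⊔ zpowers u)
        exact ⟨(⟨y, hy⟩, ⟨b, hb⟩), h⟩
      have h2 : Nat.card (zpowers u) ≤ p := by
        rw [Nat.card_zpowers]; exact orderOf_le_of_pow_eq_one hp.pos (hV u)
      have h3 : p ^ n ≤ p ^ (m + 1) := by
        rw [← hn, pow_succ, ← hm]
        exact h1.trans (Nat.mul_le_mul_left _ h2)
      have := (Nat.pow_le_pow_iff_right hp.one_lt).mp h3
      omega
    have hvc : Nat.card ((zpowers v).subgroupOf Y) = p ^ 1 := by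
      rw [Nat.card_congr (subgroupOfEquivOfLe (zpowers_le.mpr hvY)).toEquiv, Nat.card_zpowers, pow_one,
        orderOf_eq_prime (hV v) hv]
    obtain ⟨W, hWc, hvW⟩ := Sylow.exists_subgroup_card_pow_prime_le p (G := Y) (n := 1) (m := k)
      (by rw [hm]; exact pow_dvd_pow p hkm) _ hvc hk1
    have hfin := hW (W.map Y.subtype) (by rw [Subgroup.card_map_of_injective Y.subtype_injective, hWc, hk]) r hr v
      ⟨⟨v, hvY⟩, hvW (mem_zpowers v), rfl⟩
    exact huY (map_subtype_le W hfin)
  obtain ⟨a, ha, b, hb, hab⟩ := hna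
  refine hab (hinj (MulEquiv.ext fun v => ?_))
  obtain ⟨i, hi⟩ := hline a ha v
  obtain ⟨j, hj⟩ := hline b hb v
  simp only at hi hj
  rw [map_mul, map_mul, MulAut.mul_apply, MulAut.mul_apply, ← hj, ← hi, map_zpow, map_zpow, ← hi, ← hj,
    ← zpow_mul, ← zpow_mul, mul_comm]

end Linear

end CfsgLib.EqualOrder.Solv
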